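import Groth.Agent.S11740
import Groth.Agent.S11741
import Groth.Agent.S2461
import Groth.Agent.S4537
import Groth.Agent.EGA41Cohen.Basic
import Groth.Agent.ArtKit.PSRing
import Groth.Prelude.Def_CAlgX

/-!
Adically formally smooth local algebras over a field with separable residue extension.
-/

set_option autoImplicit false
set_option linter.style.haveILetI false
universe u

open IsLocalRing

namespace Groth.Agent.EGA41Adic

/-- Adically formally smooth maps lift along complete thickenings. -/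
theorem exists_adic_lift {k A P : Type u} [CommRing k] [CommRing A] [CommRing P] [Algebra k A] [Algebra k P]
    (𝔫 : Ideal A) (h : CAlgX.IsAdicFormallySmooth k A 𝔫) (I : Ideal P) [IsAdicComplete I P]
    (u : A →ₐ[k] P ⧸ I) (hu : ∃ a : ℕ, ∀ x ∈ 𝔫 ^ a, u x = 0) :
    ∃ v : A →ₐ[k] P, (Ideal.Quotient.mkₐ k I).comp v = u := by
  obtain ⟨a, ha⟩ := hu
  have step : ∀ n (w : {w : A →ₐ[k] P ⧸ I ^ (n + 1) // ∀ x ∈ 𝔫 ^ (a * (2 ^ n)), w x = 0}),
      ∃ w' : {w : A →ₐ[k] P ⧸ I ^ (n + 1 + 1) // ∀ x ∈ 𝔫 ^ (a * (2 ^ (n + 1))), w x = 0},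
      (Ideal.Quotient.factorPow I (show n + 1 ≤ n + 1 + 1 by omega)).comp w'.1.toRingHom = w.1.toRingHom := by
    intro n ⟨w, hw⟩
    have hle : I ^ (n + 1 + 1) ≤ I ^ (n + 1) := Ideal.pow_le_pow_right (by omega)
    let φ : P ⧸ I ^ (n + 1 + 1) →ₐ[k] P ⧸ I ^ (n + 1) := Ideal.Quotient.factorₐ k hle
    have hs : Function.Surjective φ := Ideal.Quotient.factor_surjective hle
    have hker : RingHom.ker φ = (I ^ (n + 1)).map (Ideal.Quotient.mk (I ^ (n + 1 + 1))) :=
      Ideal.Quotient.factor_ker hle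
    have hsq : RingHom.ker φ ^ 2 = ⊥ := by
      rw [hker, ← Ideal.map_pow (Ideal.Quotient.mk (I ^ (n + 1 + 1))), Ideal.map_eq_bot_iff_le_ker,
        Ideal.mk_ker, ← pow_mul]
      exact Ideal.pow_le_pow_right (by omega)
    let e := Ideal.quotientKerAlgEquivOfSurjective hs
    obtain ⟨v, hv⟩ := h _ (RingHom.ker φ) hsq (e.symm.toAlgHom.comp w)
      ⟨a * 2 ^ n, fun x hx => by simp [hw x hx]⟩
    have hφv : ∀ x, φ (v x) = w x := fun x => by
      have := congrArg e (DFunLike.congr_fun hv x)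
      simp only [AlgHom.comp_apply, AlgEquiv.coe_toAlgHom, AlgEquiv.apply_symm_apply] at this
      exact this
    refine ⟨⟨v, fun x hx => ?_⟩, RingHom.ext hφv⟩
    have hm : (𝔫 ^ (a * 2 ^ n)).map v.toRingHom ≤ RingHom.ker φ :=
      Ideal.map_le_iff_le_comap.mpr fun y hy => RingHom.mem_ker.mpr ((hφv y).trans (hw y hy))
    have h2 := Ideal.mem_map_of_mem v.toRingHom hx
    rw [show a * 2 ^ (n + 1) = a * 2 ^ n * 2 by ring, pow_mul, Ideal.map_pow] at h2
    have h3 := Ideal.pow_right_mono hm 2 h2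
    rw [hsq] at h3
    exact (Submodule.mem_bot _).mp h3
  choose next hnext using step
  let e0 : P ⧸ I →ₐ[k] P ⧸ I ^ (0 + 1) :=
    (Ideal.quotientEquivAlgOfEq k (by rw [zero_add, pow_one] : I = I ^ (0 + 1))).toAlgHom
  let w : ∀ n, {w : A →ₐ[k] P ⧸ I ^ (n + 1) // ∀ x ∈ 𝔫 ^ (a * (2 ^ n)), w x = 0} := fun n =>
    n.rec ⟨e0.comp u, fun x hx => by rw [pow_zero, mul_one] at hx; simp [ha x hx]⟩ fun n p => next n p
  have hmono : StrictMono (fun n : ℕ => n + 1) := fun a b h => Nat.succ_lt_succ h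
  have hcompat : ∀ {j : ℕ}, (Ideal.Quotient.factorPow I (Nat.succ_le_succ j.le_succ)).comp
      (w (j + 1)).1.toRingHom = (w j).1.toRingHom := fun {j} => by
    exact hnext j (w j)
  have hv := fun n => IsAdicComplete.StrictMono.mk_liftRingHom I hmono (fun n => (w n).1.toRingHom) hcompat (n := n)
  refine ⟨{ IsAdicComplete.StrictMono.liftRingHom I hmono (fun n => (w n).1.toRingHom) hcompat with
    commutes' := fun r => ?_ }, AlgHom.ext fun x => ?_⟩
  · refine eq_of_sub_eq_zero (IsHausdorff.haus (I := I) inferInstance _ fun n => ?_)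
    rw [SModEq.sub_mem, sub_zero, smul_eq_mul, Ideal.mul_top]
    refine Ideal.pow_le_pow_right (show n ≤ n + 1 by omega) (Ideal.Quotient.eq.mp ?_)
    exact (hv n (algebraMap k A r)).trans ((w n).1.commutes r)
  · exact Ideal.quotientEquivAlgOfEq k (by rw [zero_add, pow_one] : I = I ^ (0 + 1)) |>.injective (hv 0 x)

/-- A surjective endomorphism of a Noetherian ring is injective. -/
theorem injective_of_surjective_endo {R : Type u} [CommRing R] [IsNoetherianRing R] (e : R →+* R)
    (he : Function.Surjective e) : Function.Injective e := by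
  have hs : ∀ n : ℕ, Function.Surjective (e^[n]) := fun n => he.iterate n
  let K : ℕ →o Ideal R :=
    ⟨fun n => RingHom.ker (e ^ n), monotone_nat_of_le_succ fun n x hx => by
      rw [RingHom.mem_ker, pow_succ'] at *
      show e ((e ^ n) x) = 0
      rw [hx, map_zero]⟩
  obtain ⟨n, hn⟩ := monotone_stabilizes_iff_noetherian.mpr inferInstance K
  rw [injective_iff_map_eq_zero]
  intro x hx
  obtain ⟨y, rfl⟩ := hs n x
  have h : y ∈ RingHom.ker (e ^ (n + 1)) := by
    rw [RingHom.mem_ker, pow_succ']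
    show e ((e ^ n) y) = 0
    rw [RingHom.coe_pow]; exact hx
  rw [show RingHom.ker (e ^ (n + 1)) = RingHom.ker (e ^ n) from (hn (n + 1) n.le_succ).symm, RingHom.mem_ker,
    RingHom.coe_pow] at h
  exact h

theorem isAdicFormallySmooth_mvPowerSeries (k K : Type u) [Field k] [Field K] [Algebra k K]
    [Algebra.FormallySmooth k K] (d : ℕ) :
    CAlgX.IsAdicFormallySmooth k (MvPowerSeries (Fin d) K) (maximalIdeal (MvPowerSeries (Fin d) K)) := by
  intro E _ _ J hJ ψ hψ
  obtain ⟨j, hj⟩ := hψ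
  let C : K →ₐ[k] MvPowerSeries (Fin d) K := IsScalarTower.toAlgHom k K _
  let v₀ : K →ₐ[k] E := Algebra.FormallySmooth.lift J ⟨2, hJ⟩ (ψ.comp C)
  have hv₀ : ∀ a, Ideal.Quotient.mk J (v₀ a) = ψ (C a) := fun a =>
    Algebra.FormallySmooth.mk_lift J ⟨2, hJ⟩ (ψ.comp C) a
  letI : Algebra K E := v₀.toRingHom.toAlgebra
  haveI : IsScalarTower k K E := IsScalarTower.of_algebraMap_eq fun r => (v₀.commutes r).symm
  choose c hc using fun i : Fin d => Ideal.Quotient.mk_surjective (ψ (MvPowerSeries.X i))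
  have hX : ∀ i : Fin d, (MvPowerSeries.X i : MvPowerSeries (Fin d) K) ∈ maximalIdeal _ := fun i => by
    rw [← ArtPow.span_X_eq_maximalIdeal]; exact Ideal.subset_span ⟨i, rfl⟩
  have hnil : ∀ i, IsNilpotent (c i) := fun i => ⟨j * 2, by
    have : c i ^ j ∈ J := by
      rw [← Ideal.Quotient.eq_zero_iff_mem, map_pow, hc, ← map_pow]
      exact hj _ (Ideal.pow_mem_pow (hX i) j)
    rw [pow_mul]
    exact (Submodule.mem_bot E).mp (hJ ▸ Ideal.pow_mem_pow this 2)⟩
  let χ : MvPowerSeries (Fin d) K →ₐ[K] E := ArtPow.evalNil c hnil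
  let ψK : MvPowerSeries (Fin d) K →ₐ[K] E ⧸ J := { ψ.toRingHom with commutes' := fun a => (hv₀ a).symm }
  have hI : ((maximalIdeal (MvPowerSeries (Fin d) K)).map ψ.toRingHom) ^ j = ⊥ := by
    rw [← Ideal.map_pow, eq_bot_iff, Ideal.map_le_iff_le_comap]
    intro x hx
    exact hj x hx
  have heq : (Ideal.Quotient.mkₐ K J).comp χ = ψK := by
    refine ArtPow.algHom_ext (I := (maximalIdeal (MvPowerSeries (Fin d) K)).map ψ.toRingHom) hI (fun i => ?_)
      fun i => ?_
    · show Ideal.Quotient.mk J (χ (MvPowerSeries.X i)) = ψ (MvPowerSeries.X i)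
      rw [show χ (MvPowerSeries.X i) = c i from ArtPow.evalNil_X c hnil i, hc]
    · show Ideal.Quotient.mk J (χ (MvPowerSeries.X i)) ∈ _
      rw [show χ (MvPowerSeries.X i) = c i from ArtPow.evalNil_X c hnil i, hc]
      exact Ideal.mem_map_of_mem ψ.toRingHom (hX i)
  exact ⟨χ.restrictScalars k, AlgHom.ext fun x => DFunLike.congr_fun heq x⟩

theorem isAdicFormallySmooth_of_algEquiv {k A B : Type u} [CommRing k] [CommRing A] [CommRing B] [Algebra k A]
    [Algebra k B] (e : A ≃ₐ[k] B) {𝔫 : Ideal A} {𝔪 : Ideal B} (he : 𝔫.map e.toAlgHom.toRingHom = 𝔪)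
    (h : CAlgX.IsAdicFormallySmooth k A 𝔫) : CAlgX.IsAdicFormallySmooth k B 𝔪 := by
  intro E _ _ J hJ ψ ⟨a, ha⟩
  obtain ⟨χ, hχ⟩ := h E J hJ (ψ.comp e.toAlgHom) ⟨a, fun x hx => ha _ (by
    rw [← he, ← Ideal.map_pow]; exact Ideal.mem_map_of_mem e.toAlgHom.toRingHom hx)⟩
  refine ⟨χ.comp e.symm.toAlgHom, AlgHom.ext fun x => ?_⟩
  have := DFunLike.congr_fun hχ (e.symm x)
  simpa using this

theorem isAdicFormallySmooth_completion_iff {k A : Type u} [Field k] [CommRing A] [IsLocalRing A] [IsNoetherianRing A]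
    [Algebra k A] :
    CAlgX.IsAdicFormallySmooth k A (maximalIdeal A) ↔
      CAlgX.IsAdicFormallySmooth k (AdicCompletion (maximalIdeal A) A)
        (maximalIdeal (AdicCompletion (maximalIdeal A) A)) := by
  rw [S4537.result, S4537.result, AdicCompletion.maximalIdeal_eq_map]
  exact S2461.result ⊥ (maximalIdeal A)

variable {k K C : Type u} [Field k] [Field K] [Algebra k K] [CommRing C] [IsLocalRing C] [IsNoetherianRing C]
  [IsAdicComplete (maximalIdeal C) C] [Algebra k C]

/-- A coefficient field gives a presentation by power series, an isomorphism exactly in the regular case. -/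
theorem exists_presentation (σ : K →ₐ[k] C) (hσ : Function.Surjective ((residue C).comp σ.toRingHom)) :
    ∃ (d : ℕ) (ψ : MvPowerSeries (Fin d) K →ₐ[k] C), Function.Surjective ψ ∧
      (∀ a, ψ (algebraMap K _ a) = σ a) ∧ RingHom.ker ψ.toRingHom ≤ maximalIdeal (MvPowerSeries (Fin d) K) ^ 2 ∧
      (IsRegularLocalRing C ↔ Function.Bijective ψ) := by
  letI : Algebra K C := σ.toRingHom.toAlgebra
  haveI : IsScalarTower k K C := IsScalarTower.of_algebraMap_eq fun r => (σ.commutes r).symm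
  let b := Module.finBasis (ResidueField C) (CotangentSpace C)
  choose x hx using fun i => (maximalIdeal C).toCotangent_surjective (b i)
  obtain ⟨φ, hφ⟩ := ArtKit.exists_evalAdic (R := K) (maximalIdeal C) (fun i => (x i : C)) fun i => (x i).2
  have hmem : ∀ i, φ (MvPowerSeries.X i) ∈ maximalIdeal C := fun i => (hφ i).symm ▸ (x i).2
  have hfam : (fun i => (maximalIdeal C).toCotangent ⟨φ (MvPowerSeries.X i), hmem i⟩) = b :=
    funext fun i => (congrArg _ (Subtype.ext (hφ i))).trans (hx i)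
  obtain ⟨hsurj, hker⟩ := S11740.result K C hσ _ φ hmem (hfam ▸ b.linearIndependent) (hfam ▸ b.span_eq)
  exact ⟨_, φ.restrictScalars k, hsurj, φ.commutes, hker,
    S11741.result K C hσ _ φ hmem (hfam ▸ b.linearIndependent) (hfam ▸ b.span_eq)⟩

/-- An adically formally smooth complete local algebra with a coefficient field is regular. -/
theorem isRegularLocalRing_of_formallySmooth (σ : K →ₐ[k] C)
    (hσ : Function.Surjective ((residue C).comp σ.toRingHom))
    (h : CAlgX.IsAdicFormallySmooth k C (maximalIdeal C)) : IsRegularLocalRing C := by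
  obtain ⟨d, ψ, hsurj, -, hker, hiff⟩ := exists_presentation σ hσ
  set P := MvPowerSeries (Fin d) K
  set n := maximalIdeal P
  haveI : IsLocalHom ψ.toRingHom := IsLocalHom.of_surjective ψ.toRingHom hsurj
  haveI : IsAdicComplete n P := ArtKit.isAdicComplete_mvPowerSeries
  haveI : IsAdicComplete (n ^ 2) P := EGA41Cohen.isAdicComplete_ideal _
    (ne_top_of_le_ne_top (maximalIdeal.isMaximal P).ne_top (Ideal.pow_le_self two_ne_zero))
  have hk : ∀ x, ψ x = 0 → Ideal.Quotient.mkₐ k (n ^ 2) x = 0 := fun x hx =>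
    Ideal.Quotient.eq_zero_iff_mem.mpr (hker hx)
  let e := Ideal.quotientKerAlgEquivOfSurjective (f := ψ) hsurj
  let u : C →ₐ[k] P ⧸ n ^ 2 := (Ideal.Quotient.liftₐ (RingHom.ker ψ) (Ideal.Quotient.mkₐ k (n ^ 2)) hk).comp e.symm.toAlgHom
  have hu : ∀ p, u (ψ p) = Ideal.Quotient.mk (n ^ 2) p := fun p => by
    have : e.symm (ψ p) = Ideal.Quotient.mk _ p := e.symm_apply_eq.mpr rfl
    simp only [u, AlgHom.comp_apply, AlgEquiv.coe_toAlgHom, this]
    rfl
  have hmap : n.map ψ.toRingHom = maximalIdeal C := IsLocalRing.map_maximalIdeal_of_surjective ψ.toRingHom hsurj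
  obtain ⟨φ, hφ⟩ := exists_adic_lift (maximalIdeal C) h (n ^ 2) u ⟨2, fun x hx => by
    rw [← hmap, ← Ideal.map_pow] at hx
    obtain ⟨p, hp, rfl⟩ := (Ideal.mem_map_iff_of_surjective ψ.toRingHom hsurj).mp hx
    exact (hu p).trans (Ideal.Quotient.eq_zero_iff_mem.mpr hp)⟩
  let ε : P →+* P := φ.toRingHom.comp ψ.toRingHom
  have hε : ∀ p, ε p - p ∈ n ^ 2 := fun p =>
    Ideal.Quotient.eq.mp ((DFunLike.congr_fun hφ (ψ p)).trans (hu p))
  have hεn : n.map ε = n := by
    have hle : n.map ε ≤ n := Ideal.map_le_iff_le_comap.mpr fun p hp => by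
      have := add_mem (Ideal.pow_le_self two_ne_zero (hε p)) hp
      rwa [sub_add_cancel] at this
    refine le_antisymm hle (Submodule.le_of_le_smul_of_le_jacobson_bot (I := n) (IsNoetherian.noetherian n)
      (IsLocalRing.maximalIdeal_le_jacobson ⊥) fun p hp => ?_)
    rw [← sub_sub_cancel (ε p) p]
    refine sub_mem (Submodule.mem_sup_left (Ideal.mem_map_of_mem ε hp)) (Submodule.mem_sup_right ?_)
    rw [smul_eq_mul, ← pow_two]
    exact hε p
  have hεs : Function.Surjective ε := by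
    haveI : IsHausdorff (n.map ε) P := by rw [hεn]; infer_instance
    refine surjective_of_mk_map_comp_surjective (I := n) ε fun z => ?_
    obtain ⟨z, rfl⟩ := Ideal.Quotient.mk_surjective z
    exact ⟨z, Ideal.Quotient.eq.mpr (hεn.symm ▸ Ideal.pow_le_self two_ne_zero (hε z))⟩
  have hεi := injective_of_surjective_endo ε hεs
  exact hiff.mpr ⟨fun a b hab => hεi (congrArg φ hab), hsurj⟩

end Groth.Agent.EGA41Adic
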