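import Groth.Agent.EGA41Adic.DualFamily
import Groth.Agent.EGA41Adic.SepField
import Groth.Agent.EGA41FS.Projective
import Groth.Agent.EGA41FS.Rel
import Groth.Agent.S2451
import Groth.Agent.S2453

/-!
Adic formal smoothness of a Noetherian local algebra over an arbitrary field.
-/

set_option autoImplicit false
set_option linter.style.haveILetI false
universe u

open IsLocalRing TensorProduct

namespace Groth.Agent.EGA41Adic

instance perfectField_bot (K : Type u) [Field K] : PerfectField (⊥ : Subfield K) := by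
  obtain ⟨q, hq⟩ := CharP.exists K
  rcases CharP.char_is_prime_or_zero K q with hp | rfl
  · haveI := Fact.mk hp
    letI := ZMod.algebra K q
    haveI : Finite (⊥ : Subfield K) := by
      rw [Subfield.bot_eq_of_zMod_algebra q]
      exact Finite.of_surjective (algebraMap (ZMod q) K).rangeRestrictField fun y => by
        obtain ⟨x, hx⟩ := y.2
        exact ⟨x, Subtype.ext hx⟩
    infer_instance
  · haveI : CharZero K := CharP.charP_to_charZero _
    haveI : CharZero (⊥ : Subfield K) :=
      ⟨fun a b h => Nat.cast_injective (R := K) (by simpa using congrArg Subtype.val h)⟩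
    infer_instance

/-- The absolute differentials of a prime field vanish. -/
theorem subsingleton_kaehler_bot (K : Type u) [Field K] : Subsingleton (Ω[(⊥ : Subfield K)⁄ℤ]) := by
  let D := KaehlerDifferential.D ℤ (⊥ : Subfield K)
  let S : Subfield (⊥ : Subfield K) :=
    { carrier := {x | D x = 0}
      mul_mem' := fun {a b} (ha : D a = 0) (hb : D b = 0) => show D (a * b) = 0 by simp [Derivation.leibniz, ha, hb]
      one_mem' := D.map_one_eq_zero
      add_mem' := fun {a b} (ha : D a = 0) (hb : D b = 0) => show D (a + b) = 0 by rw [map_add, ha, hb, add_zero]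
      zero_mem' := map_zero D
      neg_mem' := fun {a} (ha : D a = 0) => show D (-a) = 0 by rw [map_neg, ha, neg_zero]
      inv_mem' := fun a (ha : D a = 0) => by
        show D a⁻¹ = 0
        by_cases h : a = 0
        · simp [h]
        · have := D.leibniz a a⁻¹
          rw [mul_inv_cancel₀ h, D.map_one_eq_zero, ha, smul_zero, add_zero] at this
          exact (smul_eq_zero.mp this.symm).resolve_left h }
  have hall : ∀ x, D x = 0 := fun x => by
    have hle : (⊥ : Subfield K) ≤ S.map (⊥ : Subfield K).subtype := bot_le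
    obtain ⟨y, hy, hyx⟩ := hle x.2
    rw [← (Subtype.ext hyx : y = x)]
    exact hy
  have hsp := KaehlerDifferential.span_range_derivation ℤ (⊥ : Subfield K)
  refine subsingleton_of_forall_eq 0 fun ω => ?_
  have hω : ω ∈ Submodule.span (⊥ : Subfield K) (Set.range D) := hsp.ge Submodule.mem_top
  induction hω using Submodule.span_induction with
  | mem x hx => obtain ⟨y, rfl⟩ := hx; exact hall y
  | zero => rfl
  | add x y _ _ hx hy => rw [hx, hy, add_zero]
  | smul c x _ hx => rw [hx, smul_zero]

variable {k A : Type u} [Field k] [CommRing A] [Algebra k A]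

/-- A fixed basis of the absolute differentials of the ground field gives a family in `L ⊗ Ω[A⁄ℤ]`. -/
noncomputable def fam (k A L : Type u) [Field k] [CommRing A] [Algebra k A] [CommRing L] [Algebra A L] :
    Module.Free.ChooseBasisIndex k (Ω[k⁄ℤ]) → L ⊗[A] Ω[A⁄ℤ] :=
  fun i => (1 : L) ⊗ₜ[A] KaehlerDifferential.map ℤ ℤ k A (Module.Free.chooseBasis k (Ω[k⁄ℤ]) i)

/-- The condition on differentials, read as an independence statement. -/
theorem injective_iff_indep (L : Type u) [Field L] [Algebra A L] :
    Function.Injective ((KaehlerDifferential.mapBaseChange ℤ k A).lTensor L) ↔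
      LinearIndependent L (fam k A L) := by
  letI : Algebra k L := ((algebraMap A L).comp (algebraMap k A)).toAlgebra
  haveI : IsScalarTower k A L := IsScalarTower.of_algebraMap_eq' rfl
  let b := (Module.Free.chooseBasis k (Ω[k⁄ℤ])).baseChange L
  let θ := TensorProduct.AlgebraTensorModule.cancelBaseChange k A L L (Ω[k⁄ℤ])
  let g : L ⊗[k] Ω[k⁄ℤ] →ₗ[L] L ⊗[A] Ω[A⁄ℤ] :=
    (KaehlerDifferential.mapBaseChange ℤ k A).baseChange L ∘ₗ θ.symm.toLinearMap
  have hg : g ∘ b = fam k A L := funext fun i => by
    simp [g, b, θ, fam]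
  have h1 : Function.Injective ((KaehlerDifferential.mapBaseChange ℤ k A).lTensor L) ↔ Function.Injective g := by
    show Function.Injective ((KaehlerDifferential.mapBaseChange ℤ k A).baseChange L) ↔ _
    exact (Function.Injective.of_comp_iff' _ θ.symm.bijective).symm
  rw [h1, ← hg]
  refine ⟨fun h => b.linearIndependent.map' g (LinearMap.ker_eq_bot.mpr h), fun h => ?_⟩
  have hcomp : g = Finsupp.linearCombination L (g ∘ b) ∘ₗ b.repr.toLinearMap := b.ext fun i => by simp
  rw [hcomp]
  exact (linearIndependent_iff_injective_finsuppLinearCombination.mp h).comp b.repr.injective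

variable [IsLocalRing A] [IsNoetherianRing A]

theorem formallySmooth_prime_iff_regular :
    CAlgX.IsAdicFormallySmooth (⊥ : Subfield k) A (maximalIdeal A) ↔ IsRegularLocalRing A := by
  haveI : Algebra.FormallySmooth (⊥ : Subfield k) (ResidueField A) :=
    Groth.Agent.FSField.formallySmooth_of_perfectField _ _
  haveI : Algebra.IsGeometricallyReduced (⊥ : Subfield k) (ResidueField A) :=
    Groth.Agent.S2451.result.mp inferInstance
  exact (Groth.Agent.S2453.result (k := (⊥ : Subfield k)) (A := A)).out 0 3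

omit [IsLocalRing A] [IsNoetherianRing A] in
theorem formallySmooth_prime_of_formallySmooth (𝔫 : Ideal A) (h : CAlgX.IsAdicFormallySmooth k A 𝔫) :
    CAlgX.IsAdicFormallySmooth (⊥ : Subfield k) A 𝔫 := by
  intro E _ _ J hJ u hu
  haveI : Algebra.FormallySmooth (⊥ : Subfield k) k := Groth.Agent.FSField.formallySmooth_of_perfectField _ _
  let v₀ : k →ₐ[(⊥ : Subfield k)] E := Algebra.FormallySmooth.lift J ⟨2, hJ⟩ (u.comp (IsScalarTower.toAlgHom _ k A))
  have hv₀ : ∀ a, Ideal.Quotient.mk J (v₀ a) = u (algebraMap k A a) := fun a =>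
    Algebra.FormallySmooth.mk_lift J ⟨2, hJ⟩ (u.comp (IsScalarTower.toAlgHom _ k A)) a
  letI : Algebra k E := v₀.toRingHom.toAlgebra
  let uk : A →ₐ[k] E ⧸ J := { u.toRingHom with commutes' := fun a => (hv₀ a).symm }
  obtain ⟨v, hv⟩ := h E J hJ uk hu
  refine ⟨{ v.toRingHom with commutes' := fun a => ?_ }, AlgHom.ext fun x => DFunLike.congr_fun hv x⟩
  show v (algebraMap (⊥ : Subfield k) A a) = algebraMap _ E a
  rw [IsScalarTower.algebraMap_apply (⊥ : Subfield k) k A, AlgHom.commutes]
  exact v₀.commutes a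

theorem isRegularLocalRing_of_isAdicFormallySmooth (h : CAlgX.IsAdicFormallySmooth k A (maximalIdeal A)) :
    IsRegularLocalRing A :=
  formallySmooth_prime_iff_regular.mp (formallySmooth_prime_of_formallySmooth _ h)

omit [IsNoetherianRing A] in
theorem indep_of_isAdicFormallySmooth (h : CAlgX.IsAdicFormallySmooth k A (maximalIdeal A)) :
    LinearIndependent (ResidueField A) (fam k A (ResidueField A)) := by
  classical
  let K := ResidueField A
  let ι := Module.Free.ChooseBasisIndex k (Ω[k⁄ℤ])
  let b := Module.Free.chooseBasis k (Ω[k⁄ℤ])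
  let M := ι →₀ K
  let d : Ω[k⁄ℤ] →ₗ[k] M := (Finsupp.mapRange.linearMap (Algebra.linearMap k K)) ∘ₗ b.repr.toLinearMap
  letI : Algebra k (TrivSqZeroExt K M) := (RingHom.mk' (⟨⟨fun x => TrivSqZeroExt.inl (algebraMap k K x) +
      TrivSqZeroExt.inr (d (KaehlerDifferential.D ℤ k x)), by simp⟩, fun x y => by
        apply TrivSqZeroExt.ext
        · simp
        · simp only [TrivSqZeroExt.snd_add, TrivSqZeroExt.snd_inl, TrivSqZeroExt.snd_inr, zero_add,
            TrivSqZeroExt.snd_mul, TrivSqZeroExt.fst_add, TrivSqZeroExt.fst_inl, TrivSqZeroExt.fst_inr, add_zero,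
            op_smul_eq_smul, Derivation.leibniz, map_add, map_smul, algebraMap_smul]⟩ : k →* TrivSqZeroExt K M)
      (fun x y => by apply TrivSqZeroExt.ext <;> simp [map_add] <;> abel)).toAlgebra
  let π : TrivSqZeroExt K M →ₐ[k] K :=
    { (TrivSqZeroExt.fstHom K K M).toRingHom with
      commutes' := fun x => by
        show (TrivSqZeroExt.inl (algebraMap k K x) + TrivSqZeroExt.inr (d (KaehlerDifferential.D ℤ k x)) :
          TrivSqZeroExt K M).fst = algebraMap k K x
        simp }
  have hπ : Function.Surjective π := fun c => ⟨TrivSqZeroExt.inl c, rfl⟩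
  have hJ : RingHom.ker π ^ 2 = ⊥ := by
    rw [pow_two, eq_bot_iff, Ideal.mul_le]
    intro x hx y hy
    have hx1 : x.fst = 0 := RingHom.mem_ker.mp hx
    have hy1 : y.fst = 0 := RingHom.mem_ker.mp hy
    rw [Ideal.mem_bot]
    exact TrivSqZeroExt.ext (by simp [hx1]) (by simp [hx1, hy1])
  let e := Ideal.quotientKerAlgEquivOfSurjective hπ
  obtain ⟨v, hv⟩ := h _ (RingHom.ker π) hJ (e.symm.toAlgHom.comp (IsScalarTower.toAlgHom k A K))
    ⟨1, fun x hx => by
      rw [pow_one] at hx
      show e.symm (residue A x) = 0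
      rw [(residue_eq_zero_iff x).mpr hx, map_zero]⟩
  have hfst : ∀ x, (v x).fst = residue A x := fun x => by
    have h1 := congrArg e (DFunLike.congr_fun hv x)
    simp only [AlgHom.comp_apply, AlgEquiv.coe_toAlgHom, AlgEquiv.apply_symm_apply] at h1
    exact h1
  let D0 : A →+ M := AddMonoidHom.mk' (fun x => (v x).snd) fun x y => by simp
  haveI : IsScalarTower ℤ A M := AddCommGroup.intIsScalarTower
  let D : Derivation ℤ A M := Derivation.mk' D0.toIntLinearMap fun x y => by
    show (v (x * y)).snd = x • (v y).snd + y • (v x).snd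
    rw [map_mul, TrivSqZeroExt.snd_mul, hfst, hfst, op_smul_eq_smul,
      ← algebraMap_smul K x, ← algebraMap_smul K y]
    rfl
  have hD : ∀ a, D (algebraMap k A a) = d (KaehlerDifferential.D ℤ k a) := fun a => by
    show (v (algebraMap k A a)).snd = _
    rw [AlgHom.commutes]
    show (TrivSqZeroExt.inl (algebraMap k K a) + TrivSqZeroExt.inr (d (KaehlerDifferential.D ℤ k a)) :
      TrivSqZeroExt K M).snd = _
    simp
  have key : ∀ ω, D.liftKaehlerDifferential (KaehlerDifferential.map ℤ ℤ k A ω) = d ω := fun ω => by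
    have hω : ω ∈ Submodule.span k (Set.range (KaehlerDifferential.D ℤ k)) := by
      rw [KaehlerDifferential.span_range_derivation]; trivial
    induction hω using Submodule.span_induction with
    | mem x hx =>
      obtain ⟨a, rfl⟩ := hx
      rw [KaehlerDifferential.map_D, Derivation.liftKaehlerDifferential_comp_D, hD]
    | zero => simp
    | add x y _ _ hx hy => simp only [map_add, hx, hy]
    | smul c x _ hx =>
      rw [map_smul (KaehlerDifferential.map ℤ ℤ k A), map_smul d, ← algebraMap_smul A c, map_smul, hx, algebraMap_smul]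
  refine LinearIndependent.of_comp (D.liftKaehlerDifferential.liftBaseChange K) ?_
  have hcomp : (D.liftKaehlerDifferential.liftBaseChange K) ∘ fam k A K = fun i => Finsupp.single i (1 : K) :=
    funext fun i => by
      show (D.liftKaehlerDifferential.liftBaseChange K) ((1 : K) ⊗ₜ _) = _
      rw [LinearMap.liftBaseChange_tmul, one_smul, key]
      simp only [d, b, LinearMap.comp_apply, LinearEquiv.coe_coe, Module.Basis.repr_self, Finsupp.mapRange.linearMap_apply]
      show Finsupp.mapRange (Algebra.linearMap k K) (map_zero _) (Finsupp.single i 1) = _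
      rw [Finsupp.mapRange_single, Algebra.linearMap_apply, map_one]
  rw [hcomp]
  exact Finsupp.linearIndependent_single_one K _

/-- Functionals dual to the differentials of the field, modulo a power of the maximal ideal. -/
theorem exists_dual [IsRegularLocalRing A]
    (hind : LinearIndependent (ResidueField A) (fam k A (ResidueField A))) (j : ℕ) :
    ∃ r : (A ⧸ maximalIdeal A ^ (j + 1)) ⊗[A] Ω[A⁄ℤ] →ₗ[A ⧸ maximalIdeal A ^ (j + 1)]
        Module.Free.ChooseBasisIndex k (Ω[k⁄ℤ]) →₀ (A ⧸ maximalIdeal A ^ (j + 1)),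
      ∀ i, r (1 ⊗ₜ[A] KaehlerDifferential.map ℤ ℤ k A (Module.Free.chooseBasis k (Ω[k⁄ℤ]) i)) =
        Finsupp.single i 1 := by
  classical
  have hF : CAlgX.IsAdicFormallySmooth (⊥ : Subfield k) A (maximalIdeal A) :=
    formallySmooth_prime_iff_regular.mpr inferInstance
  let I := maximalIdeal A ^ (j + 1)
  haveI : Nontrivial (A ⧸ I) := Ideal.Quotient.nontrivial_iff.mpr
    (ne_top_of_le_ne_top (maximalIdeal.isMaximal A).ne_top (Ideal.pow_le_self (Nat.succ_ne_zero j)))
  haveI : IsLocalRing (A ⧸ I) := IsLocalRing.of_surjective' (Ideal.Quotient.mk I) Ideal.Quotient.mk_surjective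
  haveI : IsLocalHom (Ideal.Quotient.mk I) := IsLocalHom.of_surjective _ Ideal.Quotient.mk_surjective
  have hnil : IsNilpotent (maximalIdeal (A ⧸ I)) := ⟨j + 1, by
    rw [← IsLocalRing.map_maximalIdeal_of_surjective (Ideal.Quotient.mk I) Ideal.Quotient.mk_surjective,
      ← Ideal.map_pow]
    exact Ideal.map_quotient_self _⟩
  haveI : Module.Free (A ⧸ I) ((A ⧸ I) ⊗[A] Ω[A⁄ℤ]) := by
    haveI := subsingleton_kaehler_bot k
    have hbij : Function.Bijective (KaehlerDifferential.map ℤ (⊥ : Subfield k) A A) := by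
      refine ⟨?_, KaehlerDifferential.map_surjective ℤ (⊥ : Subfield k) A⟩
      rw [injective_iff_map_eq_zero]
      intro x hx
      obtain ⟨y, rfl⟩ := (KaehlerDifferential.exact_mapBaseChange_map ℤ (⊥ : Subfield k) A x).mp hx
      rw [Subsingleton.elim y 0, map_zero]
    haveI := EGA41FS.projective_of_formallySmoothAdic (⊥ : Ideal (⊥ : Subfield k)) (maximalIdeal A)
      ⟨1, by rw [pow_one, Ideal.map_bot]; exact bot_le⟩ ((S4537.result _).mp hF) I ⟨j + 1, le_rfl⟩
    haveI : Module.Projective (A ⧸ I) ((A ⧸ I) ⊗[A] Ω[A⁄ℤ]) :=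
      Module.Projective.of_equiv (TensorProduct.AlgebraTensorModule.congr (LinearEquiv.refl (A ⧸ I) (A ⧸ I))
        (LinearEquiv.ofBijective _ hbij).symm)
    exact ArtFlat.free_of_flat hnil _
  letI : Algebra (A ⧸ I) (ResidueField A) :=
    (Ideal.Quotient.factor (Ideal.pow_le_self (Nat.succ_ne_zero j) : I ≤ maximalIdeal A)).toAlgebra
  haveI : IsScalarTower A (A ⧸ I) (ResidueField A) := IsScalarTower.of_algebraMap_eq fun _ => rfl
  let b := Module.Free.chooseBasis k (Ω[k⁄ℤ])
  let w := fun i => (1 : A ⧸ I) ⊗ₜ[A] KaehlerDifferential.map ℤ ℤ k A (b i)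
  exact exists_dual_family hnil (K := ResidueField A)
    (Ideal.Quotient.factor_surjective (Ideal.pow_le_self (Nat.succ_ne_zero j) : I ≤ maximalIdeal A)) w (by
      refine LinearIndependent.of_comp
        (TensorProduct.AlgebraTensorModule.cancelBaseChange A (A ⧸ I) (ResidueField A) (ResidueField A)
          (Ω[A⁄ℤ])).toLinearMap ?_
      convert hind using 1
      exact funext fun i => by simp [w, fam, b])

theorem isAdicFormallySmooth_of_regular_indep [IsRegularLocalRing A]
    (hind : LinearIndependent (ResidueField A) (fam k A (ResidueField A))) :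
    CAlgX.IsAdicFormallySmooth k A (maximalIdeal A) := by
  classical
  have hF : CAlgX.IsAdicFormallySmooth (⊥ : Subfield k) A (maximalIdeal A) :=
    formallySmooth_prime_iff_regular.mpr inferInstance
  intro E _ _ J hJ u₀ ⟨j, hj⟩
  obtain ⟨u, hu⟩ := hF E J hJ (u₀.restrictScalars (⊥ : Subfield k)) ⟨j, hj⟩
  have hu' : ∀ x, Ideal.Quotient.mk J (u x) = u₀ x := fun x => DFunLike.congr_fun hu x
  have hJJ : ∀ x ∈ J, ∀ y ∈ J, x * y = 0 := fun x hx y hy =>
    (Submodule.mem_bot _).mp (hJ ▸ (pow_two J).symm ▸ Ideal.mul_mem_mul hx hy)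
  let I := maximalIdeal A ^ (j + 1)
  haveI : Nontrivial (A ⧸ I) := Ideal.Quotient.nontrivial_iff.mpr
    (ne_top_of_le_ne_top (maximalIdeal.isMaximal A).ne_top (Ideal.pow_le_self (Nat.succ_ne_zero j)))
  haveI : IsLocalRing (A ⧸ I) := IsLocalRing.of_surjective' (Ideal.Quotient.mk I) Ideal.Quotient.mk_surjective
  haveI : IsLocalHom (Ideal.Quotient.mk I) := IsLocalHom.of_surjective _ Ideal.Quotient.mk_surjective
  have hnil : IsNilpotent (maximalIdeal (A ⧸ I)) := ⟨j + 1, by
    rw [← IsLocalRing.map_maximalIdeal_of_surjective (Ideal.Quotient.mk I) Ideal.Quotient.mk_surjective,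
      ← Ideal.map_pow]
    exact Ideal.map_quotient_self _⟩
  let b := Module.Free.chooseBasis k (Ω[k⁄ℤ])
  let w := fun i => (1 : A ⧸ I) ⊗ₜ[A] KaehlerDifferential.map ℤ ℤ k A (b i)
  obtain ⟨r, hr⟩ : ∃ r : (A ⧸ I) ⊗[A] Ω[A⁄ℤ] →ₗ[A ⧸ I] _ →₀ (A ⧸ I), ∀ i, r (w i) = Finsupp.single i 1 :=
    exists_dual hind j
  let N := EGA41FS.Twist J
  letI iA : Module A N := Module.compHom N u.toRingHom
  letI ik : Module k N := Module.compHom N (u.toRingHom.comp (algebraMap k A))
  have hsA : ∀ (c : A) (x : N), EGA41FS.Twist.val (c • x) = u c * EGA41FS.Twist.val x := fun _ _ => rfl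
  have hsk : ∀ (c : k) (x : N), EGA41FS.Twist.val (c • x) = u (algebraMap k A c) * EGA41FS.Twist.val x :=
    fun _ _ => rfl
  haveI : IsScalarTower k A N := IsScalarTower.of_algebraMap_smul fun c x =>
    EGA41FS.Twist.val_injective (by rw [hsA, hsk])
  have htors : Module.IsTorsionBySet A N I := fun x a => EGA41FS.Twist.val_injective <| by
    rw [hsA, map_zero]
    refine hJJ _ (Ideal.Quotient.eq_zero_iff_mem.mp ((hu' a.1).trans (hj _ ?_))) _ (EGA41FS.Twist.val_mem x)
    exact Ideal.pow_le_pow_right (show j ≤ j + 1 by omega) a.2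
  letI : Module (A ⧸ I) N := htors.module
  haveI : IsScalarTower A (A ⧸ I) N := IsScalarTower.of_algebraMap_smul fun _ _ => rfl
  have hmemd : ∀ a, u (algebraMap k A a) - algebraMap k E a ∈ J := fun a => Ideal.Quotient.eq.mp <| by
    rw [hu', AlgHom.commutes]; rfl
  let d0 : k →+ N := AddMonoidHom.mk' (fun a => EGA41FS.Twist.mk _ (hmemd a)) fun x y =>
    EGA41FS.Twist.val_injective (by simp [sub_add_sub_comm])
  haveI : IsScalarTower ℤ k N := AddCommGroup.intIsScalarTower
  haveI : IsScalarTower ℤ A N := AddCommGroup.intIsScalarTower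
  let dd : Derivation ℤ k N := Derivation.mk' d0.toIntLinearMap fun x y => EGA41FS.Twist.val_injective <| by
    show EGA41FS.Twist.val (EGA41FS.Twist.mk _ (hmemd (x * y))) =
      EGA41FS.Twist.val (x • EGA41FS.Twist.mk _ (hmemd y) + y • EGA41FS.Twist.mk _ (hmemd x))
    have h := hJJ _ (hmemd x) _ (hmemd y)
    simp only [map_add, hsk, EGA41FS.Twist.val_mk, map_mul] at h ⊢
    linear_combination -h
  let ℓ : Ω[A⁄ℤ] →ₗ[A] N :=
    ((Finsupp.linearCombination (A ⧸ I) fun i => dd.liftKaehlerDifferential (b i)) ∘ₗ r).restrictScalars A ∘ₗ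
      TensorProduct.mk A (A ⧸ I) (Ω[A⁄ℤ]) 1
  have hℓ : ℓ.restrictScalars k ∘ₗ KaehlerDifferential.map ℤ ℤ k A = dd.liftKaehlerDifferential := b.ext fun i => by
    show (Finsupp.linearCombination (A ⧸ I) fun i => dd.liftKaehlerDifferential (b i)) (r (w i)) = _
    rw [hr, Finsupp.linearCombination_single, one_smul]
  let δ : A → E := fun x => EGA41FS.Twist.val (ℓ (KaehlerDifferential.D ℤ A x))
  have hδJ : ∀ x, δ x ∈ J := fun x => EGA41FS.Twist.val_mem _
  have hδadd : ∀ x y, δ (x + y) = δ x + δ y := fun x y => by simp [δ]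
  have hδmul : ∀ x y, δ (x * y) = u x * δ y + u y * δ x := fun x y => by
    simp only [δ, Derivation.leibniz, map_add, map_smul, hsA]
  have hδalg : ∀ a, δ (algebraMap k A a) = u (algebraMap k A a) - algebraMap k E a := fun a => by
    have h1 := LinearMap.congr_fun hℓ (KaehlerDifferential.D ℤ k a)
    rw [LinearMap.comp_apply, KaehlerDifferential.map_D, Derivation.liftKaehlerDifferential_comp_D] at h1
    exact congrArg EGA41FS.Twist.val h1
  refine ⟨{ toFun := fun c => u c - δ c
            map_one' := ?_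
            map_mul' := fun x y => ?_
            map_zero' := ?_
            map_add' := fun x y => by rw [map_add, hδadd]; ring
            commutes' := fun b => ?_ }, AlgHom.ext fun c => ?_⟩
  · rw [map_one, ← map_one (algebraMap k A), hδalg, map_one, map_one, map_one, sub_self, sub_zero]
  · rw [map_mul, hδmul]
    linear_combination -(hJJ _ (hδJ x) _ (hδJ y))
  · rw [map_zero, ← map_zero (algebraMap k A), hδalg, map_zero, map_zero, map_zero, sub_self, sub_zero]
  · show u (algebraMap k A b) - δ (algebraMap k A b) = algebraMap k E b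
    rw [hδalg, sub_sub_cancel]
  · show Ideal.Quotient.mk J (u c - δ c) = u₀ c
    rw [map_sub, hu', Ideal.Quotient.eq_zero_iff_mem.mpr (hδJ c), sub_zero]

/-- Adic formal smoothness over a field: regularity and independence of the differentials of the field. -/
theorem isAdicFormallySmooth_iff :
    CAlgX.IsAdicFormallySmooth k A (maximalIdeal A) ↔
      (IsRegularLocalRing A ∧ LinearIndependent (ResidueField A) (fam k A (ResidueField A))) :=
  ⟨fun h => ⟨isRegularLocalRing_of_isAdicFormallySmooth h, indep_of_isAdicFormallySmooth h⟩,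
    fun ⟨h1, h2⟩ => haveI := h1; isAdicFormallySmooth_of_regular_indep h2⟩

end Groth.Agent.EGA41Adic
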