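import Groth.Prelude.Def_CAlgX
import Mathlib

/-!
Localization preserves adic formal smoothness.
-/

set_option autoImplicit false
universe u

open IsLocalRing

namespace Groth.Agent.EGA41Adic

theorem isAdicFormallySmooth_localization {R S : Type u} [CommRing R] [CommRing S] [Algebra R S] (𝔫 : Ideal S)
    (h : CAlgX.IsAdicFormallySmooth R S 𝔫) (M : Ideal S) [M.IsPrime] (hle : 𝔫 ≤ M) :
    CAlgX.IsAdicFormallySmooth R (Localization.AtPrime M) (maximalIdeal (Localization.AtPrime M)) := by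
  intro E _ _ J hJ ψ ⟨j, hj⟩
  let ι := IsScalarTower.toAlgHom R S (Localization.AtPrime M)
  obtain ⟨χ, hχ⟩ := h E J hJ (ψ.comp ι) ⟨j, fun x hx => hj _ (by
    rw [← Localization.AtPrime.map_eq_maximalIdeal, ← Ideal.map_pow]
    exact Ideal.mem_map_of_mem _ (Ideal.pow_right_mono hle j hx))⟩
  have hχ' : ∀ x, Ideal.Quotient.mk J (χ x) = ψ (algebraMap S _ x) := fun x => DFunLike.congr_fun hχ x
  have hunit : ∀ y : M.primeCompl, IsUnit (χ y) := fun y => by
    have hu : IsUnit (Ideal.Quotient.mk J (χ y)) := by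
      rw [hχ']
      exact (IsLocalization.map_units (Localization.AtPrime M) y).map ψ
    obtain ⟨v, hv⟩ := hu
    obtain ⟨z, hz⟩ := Ideal.Quotient.mk_surjective (↑v⁻¹ : E ⧸ J)
    have hd : χ y * z - 1 ∈ J := Ideal.Quotient.eq.mp (by rw [map_mul, ← hv, hz, map_one, Units.mul_inv])
    have hnil : IsNilpotent (χ y * z - 1) := ⟨2, (Submodule.mem_bot E).mp (hJ ▸ Ideal.pow_mem_pow hd 2)⟩
    have := hnil.isUnit_add_one
    rw [sub_add_cancel] at this
    exact isUnit_of_mul_isUnit_left this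
  refine ⟨IsLocalization.liftAlgHom hunit, ?_⟩
  refine IsLocalization.algHom_ext M.primeCompl (AlgHom.ext fun x => ?_)
  show Ideal.Quotient.mk J ((IsLocalization.liftAlgHom hunit) (algebraMap S (Localization.AtPrime M) x)) = ψ _
  rw [IsLocalization.liftAlgHom_apply, IsLocalization.lift_eq]
  exact hχ' x

end Groth.Agent.EGA41Adic
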