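import Groth.Agent.EGA41Adic.Field
import Groth.Agent.S4595
import Groth.Agent.SegreDim.Noether

/-!
Regularity of finite radical extensions detects the independence of the differentials of the field.
-/

set_option autoImplicit false
set_option linter.style.haveILetI false
universe u

open IsLocalRing TensorProduct MvPolynomial

namespace Groth.Agent.EGA41Adic

variable {k : Type u} [Field k] (p : ℕ) [hp : Fact p.Prime] [CharP k p]

/-- The ideal of the radical extension. -/
noncomputable def relIdeal (R : Type u) [CommRing R] (p : ℕ) {r : ℕ} (f : Fin r → R) : Ideal (MvPolynomial (Fin r) R) :=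
  Ideal.span (Set.range fun i => X i ^ p - C (f i))

theorem isField_radical {r : ℕ} (a : Fin r → k) (ha : LinearIndependent k fun i => KaehlerDifferential.D ℤ k (a i)) :
    IsField (MvPolynomial (Fin r) k ⧸ relIdeal k p a) := by
  classical
  obtain ⟨hloc, hiff⟩ := S4595.result (A := k) (by rw [IsLocalRing.isField_iff_maximalIdeal_eq.mp (Field.toIsField k), pow_two, Ideal.bot_mul]) p a
  have hres : LinearIndependent (ResidueField k) fun i => (1 : ResidueField k) ⊗ₜ[k] KaehlerDifferential.D ℤ k (a i) := by
    let e : k ≃+* ResidueField k := RingEquiv.ofBijective (residue k)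
      ⟨(residue k).injective, residue_surjective⟩
    let θ : ResidueField k ⊗[k] Ω[k⁄ℤ] →+ Ω[k⁄ℤ] :=
      TensorProduct.liftAddHom (AddMonoidHom.mk' (fun c => AddMonoidHom.mk' (fun ω => e.symm c • ω)
        (fun x y => smul_add _ x y)) (fun x y => by ext ω; simp [add_smul]))
        (fun s c ω => by
          show e.symm (s • c) • ω = e.symm c • s • ω
          rw [Algebra.smul_def, map_mul, show e.symm (algebraMap k (ResidueField k) s) = s from e.symm_apply_apply s,
            mul_smul, smul_comm])
    rw [linearIndependent_iff'] at ha ⊢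
    intro s g hg i hi
    have := congrArg θ hg
    simp only [map_sum, map_zero, TensorProduct.smul_tmul', smul_eq_mul, mul_one] at this
    have := ha s (fun i => e.symm (g i)) this i hi
    simpa using this
  haveI : IsLocalRing (MvPolynomial (Fin r) k ⧸ relIdeal k p a) := hloc
  have h := hiff.mpr hres
  rw [IsLocalRing.finrank_cotangentSpace_eq_zero k] at h
  haveI : IsNoetherianRing (MvPolynomial (Fin r) k ⧸ relIdeal k p a) := inferInstance
  exact IsLocalRing.finrank_cotangentSpace_eq_zero_iff.mp h.symm

/-- Embedding dimensions agree along a surjection with kernel in the square of the maximal ideal. -/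
theorem spanFinrank_eq_of_ker_le_sq {T B : Type u} [CommRing T] [IsLocalRing T] [IsNoetherianRing T] [CommRing B]
    [IsLocalRing B] (φ : T →+* B) (hφ : Function.Surjective φ) (hker : RingHom.ker φ ≤ maximalIdeal T ^ 2) :
    (maximalIdeal B).spanFinrank = (maximalIdeal T).spanFinrank := by
  classical
  haveI : IsLocalHom φ := IsLocalHom.of_surjective φ hφ
  haveI : IsNoetherianRing B := isNoetherianRing_of_surjective T B φ hφ
  have hmapT : (maximalIdeal T).map φ = maximalIdeal B := IsLocalRing.map_maximalIdeal_of_surjective φ hφ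
  refine le_antisymm ?_ ?_
  · rw [← hmapT]
    exact Ideal.spanFinrank_map_le_of_fg φ (IsNoetherian.noetherian _)
  · obtain ⟨s, hs, hspan⟩ := Submodule.FG.exists_span_finset_card_eq_spanFinrank (IsNoetherian.noetherian (maximalIdeal B))
    choose l hl using fun b : B => hφ b
    have hsl : ∀ x ∈ s.image l, x ∈ maximalIdeal T := fun x hx => by
      obtain ⟨b, hb, rfl⟩ := Finset.mem_image.mp hx
      intro hu
      exact (hspan.le (Submodule.subset_span (Finset.mem_coe.mpr hb)) : b ∈ maximalIdeal B) (hl b ▸ hu.map φ)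
    have heq : maximalIdeal T ≤ Ideal.span (↑(s.image l) : Set T) := by
      refine Submodule.le_of_le_smul_of_le_jacobson_bot (I := maximalIdeal T) (IsNoetherian.noetherian _)
        (IsLocalRing.maximalIdeal_le_jacobson ⊥) fun x hx => ?_
      have hx2 : φ x ∈ (Ideal.span (↑(s.image l) : Set T)).map φ := by
        rw [Ideal.map_span, Finset.coe_image, ← Set.image_comp, show φ ∘ l = id from funext hl, Set.image_id]
        exact hspan.ge (hmapT ▸ Ideal.mem_map_of_mem φ hx)
      obtain ⟨y, hy, hyx⟩ := (Ideal.mem_map_iff_of_surjective φ hφ).mp hx2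
      rw [← add_sub_cancel y x]
      refine Submodule.add_mem_sup hy ?_
      rw [smul_eq_mul, ← pow_two]
      exact hker (RingHom.mem_ker.mpr (by rw [map_sub]; exact sub_eq_zero.mpr hyx.symm))
    calc (maximalIdeal T).spanFinrank
        = (Ideal.span (↑(s.image l) : Set T)).spanFinrank :=
          congrArg _ (le_antisymm heq (Ideal.span_le.mpr fun x hx => hsl x (Finset.mem_coe.mp hx)))
      _ ≤ (s.image l).card :=
          (Submodule.spanFinrank_span_le_ncard_of_finite (Finset.finite_toSet _)).trans (Set.ncard_coe_finset _).le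
      _ ≤ s.card := Finset.card_image_le
      _ = _ := hs

/-- A regular finite extension of a regular local ring with a local residual quotient keeps the embedding dimension. -/
theorem spanFinrank_eq_of_finite {A T B : Type u} [CommRing A] [IsRegularLocalRing A] [CommRing T] [Algebra A T]
    [Module.Finite A T] [IsRegularRing T] [CommRing B] [IsLocalRing B] (hinj : Function.Injective (algebraMap A T))
    (φ : T →+* B) (hφ : Function.Surjective φ)
    (hker : RingHom.ker φ ≤ (maximalIdeal A ^ 2).map (algebraMap A T)) :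
    (maximalIdeal B).spanFinrank = (maximalIdeal A).spanFinrank := by
  haveI : Algebra.IsIntegral A T := Algebra.IsIntegral.of_finite A T
  haveI : Nontrivial T := φ.domain_nontrivial
  have hmA : ∀ M : Ideal T, M.IsMaximal → (maximalIdeal A).map (algebraMap A T) ≤ M := fun M hM => by
    haveI := hM
    exact Ideal.map_le_iff_le_comap.mpr (eq_maximalIdeal (Ideal.isMaximal_comap_of_isIntegral_of_isMaximal M)).ge
  have hle : ∀ M : Ideal T, M.IsMaximal → RingHom.ker φ ≤ M := fun M hM =>
    hker.trans ((Ideal.map_mono (Ideal.pow_le_self two_ne_zero)).trans (hmA M hM))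
  haveI : IsLocalRing T := by
    refine IsLocalRing.of_unique_max_ideal ⟨(maximalIdeal B).comap φ,
      Ideal.comap_isMaximal_of_surjective _ hφ, fun M hM => ?_⟩
    have hmap : (M.map φ).IsMaximal := Ideal.IsMaximal.map_of_surjective_of_ker_le hφ (hle M hM)
    rw [← eq_maximalIdeal hmap, Ideal.comap_map_of_surjective φ hφ,
      sup_eq_left.mpr ((RingHom.ker_eq_comap_bot φ).ge.trans (hle M hM))]
  haveI : IsRegularLocalRing T := IsRegularLocalRing.of_isRegularRing_of_isLocalRing T
  have h0 := spanFinrank_eq_of_ker_le_sq φ hφ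
    (hker.trans ((Ideal.map_pow _ _ _).le.trans (Ideal.pow_right_mono (hmA _ (maximalIdeal.isMaximal T)) 2)))
  have hdim : ringKrullDim A = ringKrullDim T := SegreDim.ringKrullDim_eq_of_injective_integral hinj
  have h1 := IsRegularLocalRing.spanFinrank_maximalIdeal (R := A)
  have h2 := IsRegularLocalRing.spanFinrank_maximalIdeal (R := T)
  rw [← hdim, ← h1] at h2
  rw [h0]
  exact_mod_cast h2

variable {A : Type u} [CommRing A] [IsLocalRing A] [IsNoetherianRing A] [Algebra k A]

theorem indep_of_regular_radical [IsRegularLocalRing A] {r : ℕ} (a : Fin r → k)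
    (hreg : IsRegularRing ((MvPolynomial (Fin r) k ⧸ relIdeal k p a) ⊗[k] A)) :
    LinearIndependent (ResidueField A)
      fun i => (1 : ResidueField A) ⊗ₜ[A] KaehlerDifferential.D ℤ A (algebraMap k A (a i)) := by
  classical
  haveI : CharP A p := charP_of_injective_algebraMap (RingHom.injective (algebraMap k A)) p
  set I := maximalIdeal A ^ 2
  let A2 := A ⧸ I
  have hI : I ≠ ⊤ := ne_top_of_le_ne_top (maximalIdeal.isMaximal A).ne_top (Ideal.pow_le_self two_ne_zero)
  haveI : Nontrivial A2 := Ideal.Quotient.nontrivial_iff.mpr hI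
  haveI : IsLocalRing A2 := IsLocalRing.of_surjective' (Ideal.Quotient.mk I) Ideal.Quotient.mk_surjective
  haveI : IsLocalHom (Ideal.Quotient.mk I) := IsLocalHom.of_surjective _ Ideal.Quotient.mk_surjective
  have hmax2 : (maximalIdeal A).map (Ideal.Quotient.mk I) = maximalIdeal A2 :=
    IsLocalRing.map_maximalIdeal_of_surjective _ Ideal.Quotient.mk_surjective
  have hsq : maximalIdeal A2 ^ 2 = ⊥ := by
    rw [← hmax2, ← Ideal.map_pow]; exact Ideal.map_quotient_self _
  haveI : IsArtinianRing A2 := (isArtinianRing_iff_isNilpotent_maximalIdeal A2).mpr ⟨2, hsq⟩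
  haveI : CharP A2 p := charP_of_injective_algebraMap (RingHom.injective (algebraMap k A2)) p
  let f : Fin r → A := fun i => algebraMap k A (a i)
  let f2 : Fin r → A2 := fun i => Ideal.Quotient.mk I (f i)
  obtain ⟨hloc, hiff⟩ := S4595.result (A := A2) hsq p f2
  let Bk := MvPolynomial (Fin r) k ⧸ relIdeal k p a
  let B := MvPolynomial (Fin r) A2 ⧸ relIdeal A2 p f2
  haveI : IsLocalRing B := hloc
  haveI : IsRegularRing (A ⊗[k] Bk) := IsRegularRing.of_ringEquiv (R := Bk ⊗[k] A) (Algebra.TensorProduct.comm k Bk A).toRingEquiv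
  let ψ : MvPolynomial (Fin r) A →ₐ[A] A ⊗[k] Bk :=
    aeval fun i => (1 : A) ⊗ₜ[k] Ideal.Quotient.mk (relIdeal k p a) (X i)
  let q : MvPolynomial (Fin r) A →+* B :=
    (Ideal.Quotient.mk (relIdeal A2 p f2)).comp (MvPolynomial.map (Ideal.Quotient.mk I))
  have hq : Function.Surjective q :=
    Ideal.Quotient.mk_surjective.comp (MvPolynomial.map_surjective _ Ideal.Quotient.mk_surjective)
  let α : Bk →ₐ[k] B := Ideal.Quotient.liftₐ (relIdeal k p a)
      (aeval fun i => Ideal.Quotient.mk (relIdeal A2 p f2) (X i)) (fun x hx => by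
    refine RingHom.mem_ker.mp ((Ideal.span_le.mpr ?_ : relIdeal k p a ≤ RingHom.ker
      (aeval fun i => Ideal.Quotient.mk (relIdeal A2 p f2) (X i) : MvPolynomial (Fin r) k →ₐ[k] B).toRingHom) hx)
    rintro _ ⟨i, rfl⟩
    show (aeval fun i => Ideal.Quotient.mk (relIdeal A2 p f2) (X i) : MvPolynomial (Fin r) k →ₐ[k] B)
      (X i ^ p - C (a i)) = 0
    rw [map_sub, map_pow, aeval_X, aeval_C, IsScalarTower.algebraMap_apply k A2 B, ← map_pow]
    show Ideal.Quotient.mk (relIdeal A2 p f2) (X i ^ p) - Ideal.Quotient.mk (relIdeal A2 p f2) (C (algebraMap k A2 (a i))) = 0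
    rw [← map_sub, Ideal.Quotient.eq_zero_iff_mem]
    exact Ideal.subset_span ⟨i, rfl⟩)
  let φ : A ⊗[k] Bk →ₐ[k] B := Algebra.TensorProduct.lift (IsScalarTower.toAlgHom k A B) α fun _ _ => Commute.all _ _
  have hφψ : φ.toRingHom.comp ψ.toRingHom = q := by
    refine MvPolynomial.ringHom_ext (fun c => ?_) fun i => ?_
    · show φ (ψ (C c)) = q (C c)
      rw [show ψ (C c) = c ⊗ₜ[k] (1 : Bk) from ψ.commutes c, Algebra.TensorProduct.lift_tmul, map_one, mul_one]
      simp [q]
      rfl
    · show φ (ψ (X i)) = q (X i)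
      rw [show ψ (X i) = _ from aeval_X _ i, Algebra.TensorProduct.lift_tmul, map_one, one_mul]
      simp [q]
      exact aeval_X _ i
  have hψ : Function.Surjective ψ := by
    intro t
    induction t using TensorProduct.induction_on with
    | zero => exact ⟨0, map_zero _⟩
    | add x y hx hy =>
      obtain ⟨x, rfl⟩ := hx
      obtain ⟨y, rfl⟩ := hy
      exact ⟨x + y, map_add ψ x y⟩
    | tmul c b =>
      obtain ⟨P, rfl⟩ := Ideal.Quotient.mk_surjective b
      refine ⟨C c * MvPolynomial.map (algebraMap k A) P, ?_⟩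
      rw [map_mul, show ψ (C c) = c ⊗ₜ[k] (1 : Bk) from ψ.commutes c]
      have h2 : ψ.toRingHom.comp (MvPolynomial.map (algebraMap k A)) =
          (Algebra.TensorProduct.includeRight : Bk →ₐ[k] A ⊗[k] Bk).toRingHom.comp (Ideal.Quotient.mk (relIdeal k p a)) := by
        refine MvPolynomial.ringHom_ext (fun c => ?_) fun i => ?_
        · show ψ (MvPolynomial.map (algebraMap k A) (C c)) = (1 : A) ⊗ₜ[k] Ideal.Quotient.mk (relIdeal k p a) (C c)
          rw [map_C, show ψ (C (algebraMap k A c)) = algebraMap k A c ⊗ₜ[k] (1 : Bk) from ψ.commutes _,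
            Algebra.algebraMap_eq_smul_one c, TensorProduct.smul_tmul]
          congr 1
          exact (Algebra.algebraMap_eq_smul_one c).symm
        · show ψ (MvPolynomial.map (algebraMap k A) (X i)) = _
          rw [map_X]
          exact aeval_X _ i
      rw [show ψ (MvPolynomial.map (algebraMap k A) P) = (1 : A) ⊗ₜ[k] Ideal.Quotient.mk (relIdeal k p a) P from
        DFunLike.congr_fun h2 P, Algebra.TensorProduct.tmul_mul_tmul, mul_one, one_mul]
  have hφ : Function.Surjective φ := fun b => by
    obtain ⟨P, rfl⟩ := hq b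
    exact ⟨ψ P, DFunLike.congr_fun hφψ P⟩
  have hrel : ∀ i, ψ (X i ^ p - C (f i)) = 0 := fun i => by
    show ψ.toRingHom (X i ^ p - C (f i)) = 0
    rw [map_sub, map_pow, show ψ.toRingHom (X i) = _ from aeval_X _ i,
      show ψ.toRingHom (C (f i)) = algebraMap k A (a i) ⊗ₜ[k] (1 : Bk) from ψ.commutes _, Algebra.TensorProduct.tmul_pow, one_pow,
      Algebra.algebraMap_eq_smul_one (A := A) (a i), TensorProduct.smul_tmul, ← TensorProduct.tmul_sub, ← map_pow,
      ← Algebra.algebraMap_eq_smul_one,
      show algebraMap k Bk (a i) = Ideal.Quotient.mk (relIdeal k p a) (C (a i)) from rfl, ← map_sub,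
      Ideal.Quotient.eq_zero_iff_mem.mpr (show _ ∈ relIdeal k p a from Ideal.subset_span ⟨i, rfl⟩),
      TensorProduct.tmul_zero]
  have hkerφ : RingHom.ker φ.toRingHom ≤ Ideal.map (Algebra.TensorProduct.includeLeftRingHom : A →+* A ⊗[k] Bk) (maximalIdeal A ^ 2) := by
    intro t ht
    obtain ⟨P, rfl⟩ := hψ t
    have hP : MvPolynomial.map (Ideal.Quotient.mk I) P ∈
        (relIdeal A p f).map (MvPolynomial.map (Ideal.Quotient.mk I)) := by
      have h0 : q P = 0 := by rw [← hφψ]; exact ht
      have he : (relIdeal A p f).map (MvPolynomial.map (Ideal.Quotient.mk I)) = relIdeal A2 p f2 := by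
        rw [relIdeal, Ideal.map_span, ← Set.range_comp]
        congr 1
        congr 1
        funext i
        simp [f2]
      rw [he]
      exact Ideal.Quotient.eq_zero_iff_mem.mp h0
    obtain ⟨R, hR, hRP⟩ := (Ideal.mem_map_iff_of_surjective _
      (MvPolynomial.map_surjective _ Ideal.Quotient.mk_surjective)).mp hP
    have hker : P - R ∈ RingHom.ker (MvPolynomial.map (Ideal.Quotient.mk I) : MvPolynomial (Fin r) A →+* _) := by
      rw [RingHom.mem_ker, map_sub, hRP, sub_self]
    rw [MvPolynomial.ker_map, Ideal.mk_ker] at hker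
    have h1 : ψ R = 0 := by
      have : relIdeal A p f ≤ RingHom.ker ψ.toRingHom := Ideal.span_le.mpr (by rintro _ ⟨i, rfl⟩; exact hrel i)
      exact RingHom.mem_ker.mp (this hR)
    have h2 := Ideal.mem_map_of_mem ψ.toRingHom hker
    rw [Ideal.map_map, show ψ.toRingHom.comp C = (Algebra.TensorProduct.includeLeftRingHom : A →+* A ⊗[k] Bk) from RingHom.ext ψ.commutes] at h2
    rw [show ψ P = ψ (P - R) by rw [map_sub, h1, sub_zero]]
    exact h2
  haveI : Module.Finite k Bk := by
    haveI : Algebra.IsIntegral k Bk := by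
      refine ⟨fun x => ?_⟩
      obtain ⟨P, rfl⟩ := Ideal.Quotient.mk_surjective x
      induction P using MvPolynomial.induction_on with
      | C c => exact isIntegral_algebraMap
      | add x y hx hy => rw [map_add]; exact hx.add hy
      | mul_X x i hx =>
        rw [map_mul]
        refine hx.mul (IsIntegral.of_pow hp.out.pos ?_)
        rw [← map_pow, show Ideal.Quotient.mk (relIdeal k p a) (X i ^ p) = algebraMap k Bk (a i) from
          Ideal.Quotient.eq.mpr (Ideal.subset_span ⟨i, rfl⟩)]
        exact isIntegral_algebraMap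
    exact Algebra.IsIntegral.finite
  haveI : Nontrivial Bk := by
    haveI : Nontrivial (A ⊗[k] Bk) := φ.toRingHom.domain_nontrivial
    exact (Algebra.TensorProduct.includeRight : Bk →ₐ[k] A ⊗[k] Bk).toRingHom.domain_nontrivial
  have hrankB := spanFinrank_eq_of_finite (A := A) (T := A ⊗[k] Bk) (B := B)
    (Algebra.TensorProduct.includeLeft_injective (S := k) (RingHom.injective (algebraMap k Bk))) φ.toRingHom hφ hkerφ
  have hrankA := spanFinrank_eq_of_ker_le_sq (Ideal.Quotient.mk I) Ideal.Quotient.mk_surjective (Ideal.mk_ker).le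
  have hfin : Module.finrank (ResidueField A2) (CotangentSpace A2) = Module.finrank (ResidueField B) (CotangentSpace B) := by
    haveI : IsNoetherianRing B := isNoetherianRing_of_surjective (MvPolynomial (Fin r) A) B q hq
    rw [← spanFinrank_maximalIdeal_eq_finrank_cotangentSpace, ← spanFinrank_maximalIdeal_eq_finrank_cotangentSpace,
      hrankA, hrankB]
  have hind := hiff.mp hfin
  rw [linearIndependent_iff'] at hind ⊢
  intro s g hg i hi
  let M2 := ResidueField A2 ⊗[A2] Ω[A2⁄ℤ]
  let θ : ResidueField A ⊗[A] Ω[A⁄ℤ] →+ M2 :=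
    TensorProduct.liftAddHom (AddMonoidHom.mk' (fun c => AddMonoidHom.mk'
        (fun ω => ResidueField.map (Ideal.Quotient.mk I) c ⊗ₜ[A2] KaehlerDifferential.map ℤ ℤ A A2 ω)
        (fun x y => by simp only [map_add, TensorProduct.tmul_add])) (fun x y => by
          ext ω; simp [TensorProduct.add_tmul]))
      (fun r c ω => by
        show ResidueField.map (Ideal.Quotient.mk I) (r • c) ⊗ₜ[A2] KaehlerDifferential.map ℤ ℤ A A2 ω =
          ResidueField.map (Ideal.Quotient.mk I) c ⊗ₜ[A2] KaehlerDifferential.map ℤ ℤ A A2 (r • ω)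
        rw [map_smul (KaehlerDifferential.map ℤ ℤ A A2), ← algebraMap_smul A2 r (KaehlerDifferential.map ℤ ℤ A A2 ω),
          TensorProduct.tmul_smul, TensorProduct.smul_tmul', Algebra.smul_def r c, map_mul, Algebra.smul_def]
        rfl)
  have h := congrArg θ hg
  simp only [map_sum, map_zero, TensorProduct.smul_tmul', smul_eq_mul, mul_one] at h
  have h3 := hind s (fun i => ResidueField.map (Ideal.Quotient.mk I) (g i)) (by
    refine Eq.trans (Finset.sum_congr rfl fun j _ => ?_) h
    show _ = ResidueField.map (Ideal.Quotient.mk I) (g j) ⊗ₜ[A2] KaehlerDifferential.map ℤ ℤ A A2 (KaehlerDifferential.D ℤ A (f j))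
    rw [KaehlerDifferential.map_D, TensorProduct.smul_tmul', smul_eq_mul, mul_one]
    rfl) i hi
  exact (ResidueField.map (Ideal.Quotient.mk I)).injective (h3.trans (map_zero _).symm)

end Groth.Agent.EGA41Adic
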