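import Groth.Agent.ArtFlat.Basic
import Mathlib.RingTheory.Nilpotent.Basic

/-!
Families in a free module over a local ring with nilpotent maximal ideal which are independent on the closed fibre.
-/

set_option autoImplicit false
universe u v w

open TensorProduct IsLocalRing

namespace Groth.Agent.EGA41Adic

theorem exists_dual_family {R : Type u} [CommRing R] [IsLocalRing R] (hm : IsNilpotent (maximalIdeal R))
    {K : Type u} [Field K] [Algebra R K] (hK : Function.Surjective (algebraMap R K))
    {W : Type v} [AddCommGroup W] [Module R W] [Module.Free R W] {ι : Type w} (w : ι → W)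
    (hw : LinearIndependent K fun i => (1 : K) ⊗ₜ[R] w i) :
    ∃ r : W →ₗ[R] ι →₀ R, ∀ i, r (w i) = Finsupp.single i 1 := by
  classical
  obtain ⟨N, hN⟩ := hm
  have hker : ∀ a : R, algebraMap R K a = 0 → a ∈ maximalIdeal R := fun a ha hu =>
    (hu.map (algebraMap R K)).ne_zero ha
  obtain ⟨gb, hgb⟩ := (Finsupp.linearCombination K fun i => (1 : K) ⊗ₜ[R] w i).exists_leftInverse_of_injective
    (LinearMap.ker_eq_bot.mpr (linearIndependent_iff_injective_finsuppLinearCombination.mp hw))
  let c := Module.Free.chooseBasis R W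
  let ρ : (ι →₀ R) →ₗ[R] ι →₀ K := Finsupp.mapRange.linearMap (Algebra.linearMap R K)
  have hρ : Function.Surjective ρ := Finsupp.mapRange_surjective _ (map_zero (Algebra.linearMap R K)) hK
  choose gv hgv using fun j => hρ (gb ((1 : K) ⊗ₜ[R] c j))
  let g : W →ₗ[R] ι →₀ R := c.constr R gv
  have hg : ρ ∘ₗ g = gb.restrictScalars R ∘ₗ TensorProduct.mk R K W 1 := c.ext fun j => by
    simp [g, hgv]
  let f : (ι →₀ R) →ₗ[R] W := Finsupp.linearCombination R w
  have hgf : ρ ∘ₗ g ∘ₗ f = ρ := Finsupp.lhom_ext fun i a => by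
    have h1 := DFunLike.congr_fun hg (a • w i)
    simp only [LinearMap.comp_apply, LinearMap.restrictScalars_apply, TensorProduct.mk_apply] at h1
    have h2 := DFunLike.congr_fun hgb (Finsupp.single i (algebraMap R K a))
    simp only [LinearMap.comp_apply, Finsupp.linearCombination_single, LinearMap.id_apply, map_smul] at h2
    simp only [LinearMap.comp_apply, f, Finsupp.linearCombination_single, h1]
    rw [TensorProduct.tmul_smul, ← algebraMap_smul K a ((1 : K) ⊗ₜ[R] w i), map_smul, h2]
    simp [ρ]
  let η : Module.End R (ι →₀ R) := 1 - g ∘ₗ f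
  have hη : ∀ x, η x ∈ maximalIdeal R • (⊤ : Submodule R (ι →₀ R)) := fun x => by
    have h0 : ρ (η x) = 0 := by
      have := DFunLike.congr_fun hgf x
      simp only [LinearMap.comp_apply] at this
      simp [η, this]
    rw [← Finsupp.sum_single (η x)]
    refine Submodule.finsuppSum_mem _ _ _ _ fun i _ => ?_
    rw [← Finsupp.smul_single_one]
    refine Submodule.smul_mem_smul (hker _ ?_) Submodule.mem_top
    have := DFunLike.congr_fun h0 i
    simpa [ρ] using this
  have hpow : ∀ n, LinearMap.range (η ^ n) ≤ maximalIdeal R ^ n • ⊤ := by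
    intro n
    induction n with
    | zero => simp
    | succ n ih =>
      rintro _ ⟨x, rfl⟩
      rw [pow_succ η n, Module.End.mul_apply]
      have h1 : (η ^ n) (η x) ∈ (maximalIdeal R • (⊤ : Submodule R (ι →₀ R))).map (η ^ n) :=
        Submodule.mem_map_of_mem (hη x)
      rw [Submodule.map_smul'', Submodule.map_top] at h1
      refine (Submodule.smul_mono le_rfl ih) h1 |> fun h => ?_
      rwa [← Submodule.smul_assoc, smul_eq_mul, ← pow_succ'] at h
  have hnil : IsNilpotent η := ⟨N, LinearMap.ext fun x => by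
    have := hpow N ⟨x, rfl⟩
    rw [hN, Ideal.zero_eq_bot, Submodule.bot_smul, Submodule.mem_bot] at this
    exact this⟩
  obtain ⟨e, he⟩ := @IsNilpotent.isUnit_one_sub (Module.End R (ι →₀ R)) inferInstance η hnil
  have he' : (e : Module.End R (ι →₀ R)) = g ∘ₗ f := by rw [he]; exact sub_sub_cancel (1 : Module.End R (ι →₀ R)) _
  refine ⟨(e⁻¹ : (Module.End R (ι →₀ R))ˣ).val ∘ₗ g, fun i => ?_⟩
  have h1 : (g ∘ₗ f) (Finsupp.single i 1) = g (w i) := by simp [f]
  rw [LinearMap.comp_apply, ← h1, ← he', ← Module.End.mul_apply, ← Units.val_mul, inv_mul_cancel]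
  rfl

end Groth.Agent.EGA41Adic
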