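import Groth.Agent.EGA41Adic.Field

/-!
Independence of the differentials of the field at every prime.
-/

set_option autoImplicit false
set_option linter.style.haveILetI false
universe u

open IsLocalRing TensorProduct

namespace Groth.Agent.EGA41Adic

variable {k A : Type u} [Field k] [CommRing A] [Algebra k A] [IsRegularLocalRing A]

theorem indep_at_prime (hind : LinearIndependent (ResidueField A) (fam k A (ResidueField A)))
    (p : Ideal A) [p.IsPrime] : LinearIndependent p.ResidueField (fam k A p.ResidueField) := by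
  classical
  let R := A ⧸ p
  let z := fun i => (1 : R) ⊗ₜ[A] KaehlerDifferential.map ℤ ℤ k A (Module.Free.chooseBasis k (Ω[k⁄ℤ]) i)
  have hz : LinearIndependent R z := by
    rw [linearIndependent_iff']
    intro s g hg i hi
    obtain ⟨a, ha⟩ := Ideal.Quotient.mk_surjective (g i)
    rw [← ha, Ideal.Quotient.eq_zero_iff_mem]
    have key : ∀ j, Ideal.Quotient.mk p a ∈ (maximalIdeal A).map (Ideal.Quotient.mk p) ^ (j + 1) := by
      intro j
      let I := maximalIdeal A ^ (j + 1)
      obtain ⟨r, hr⟩ := exists_dual hind j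
      let T := A ⧸ (p ⊔ I)
      letI : Algebra R T := (Ideal.Quotient.factor (le_sup_left : p ≤ p ⊔ I)).toAlgebra
      haveI : IsScalarTower A R T := IsScalarTower.of_algebraMap_eq fun _ => rfl
      let φ : Ω[A⁄ℤ] →ₗ[A] T :=
        (Ideal.Quotient.factorₐ A (le_sup_right : I ≤ p ⊔ I)).toLinearMap ∘ₗ
          ((Finsupp.lapply i ∘ₗ r).restrictScalars A ∘ₗ TensorProduct.mk A (A ⧸ I) (Ω[A⁄ℤ]) 1)
      let Φ : R ⊗[A] Ω[A⁄ℤ] →ₗ[R] T := φ.liftBaseChange R
      have hΦ : ∀ l, Φ (z l) = if l = i then 1 else 0 := fun l => by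
        show φ.liftBaseChange R (1 ⊗ₜ _) = _
        rw [LinearMap.liftBaseChange_tmul, one_smul]
        show Ideal.Quotient.factorₐ A (le_sup_right : I ≤ p ⊔ I)
          (r (1 ⊗ₜ KaehlerDifferential.map ℤ ℤ k A (Module.Free.chooseBasis k (Ω[k⁄ℤ]) l)) i) = _
        rw [hr, Finsupp.single_apply]
        split_ifs <;> simp
      have h0 := congrArg Φ hg
      rw [map_sum, map_zero, Finset.sum_congr rfl (fun l _ => by rw [map_smul, hΦ]), Finset.sum_eq_single i
        (fun l _ hl => by rw [if_neg hl, smul_zero]) (fun h => absurd hi h), if_pos rfl, ← ha] at h0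
      have hmem : a ∈ p ⊔ I := by
        rw [← Ideal.Quotient.eq_zero_iff_mem, ← h0, Algebra.smul_def, mul_one]
        rfl
      rw [← Ideal.map_pow]
      have := Ideal.mem_map_of_mem (Ideal.Quotient.mk p) hmem
      rwa [Ideal.map_sup, Ideal.map_quotient_self, bot_sup_eq] at this
    haveI : Nontrivial R := Ideal.Quotient.nontrivial_iff.mpr (Ideal.IsPrime.ne_top inferInstance)
    haveI : IsLocalRing R := IsLocalRing.of_surjective' (Ideal.Quotient.mk p) Ideal.Quotient.mk_surjective
    haveI : IsLocalHom (Ideal.Quotient.mk p) := IsLocalHom.of_surjective _ Ideal.Quotient.mk_surjective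
    rw [IsLocalRing.map_maximalIdeal_of_surjective _ Ideal.Quotient.mk_surjective] at key
    have h0 : Ideal.Quotient.mk p a ∈ ⨅ n, maximalIdeal R ^ n := Ideal.mem_iInf.mpr fun n =>
      Ideal.pow_le_pow_right (show n ≤ n + 1 by omega) (key n)
    rw [Ideal.iInf_pow_eq_bot_of_isLocalRing _ (maximalIdeal.isMaximal R).ne_top, Submodule.mem_bot,
      Ideal.Quotient.eq_zero_iff_mem] at h0
    exact h0
  have h1 := hz.of_isLocalizedModule p.ResidueField (nonZeroDivisors R)
    (TensorProduct.mk R p.ResidueField (R ⊗[A] Ω[A⁄ℤ]) 1)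
  refine LinearIndependent.of_comp
    (TensorProduct.AlgebraTensorModule.cancelBaseChange A R p.ResidueField p.ResidueField (Ω[A⁄ℤ])).symm.toLinearMap ?_
  convert h1 using 1
  · exact funext fun i => by simp [fam, z]
  · rfl

theorem indep_localization (hind : LinearIndependent (ResidueField A) (fam k A (ResidueField A)))
    (p : Ideal A) [p.IsPrime] :
    LinearIndependent (ResidueField (Localization.AtPrime p))
      (fam k (Localization.AtPrime p) (ResidueField (Localization.AtPrime p))) := by
  have h := indep_at_prime hind p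
  let L := Localization.AtPrime p
  letI : Algebra ℤ L := Ring.toIntAlgebra L
  haveI : IsScalarTower ℤ A L := IsScalarTower.of_algebraMap_eq' (RingHom.ext_int _ _)
  haveI : Algebra.FormallyEtale A L := Algebra.FormallyEtale.of_isLocalization p.primeCompl
  let T := (TensorProduct.AlgebraTensorModule.cancelBaseChange A L p.ResidueField p.ResidueField (Ω[A⁄ℤ])).symm.trans
    (TensorProduct.AlgebraTensorModule.congr (LinearEquiv.refl p.ResidueField p.ResidueField)
      (KaehlerDifferential.tensorKaehlerEquivOfFormallyEtale ℤ A L))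
  have hT := h.map' T.toLinearMap (LinearMap.ker_eq_bot.mpr T.injective)
  suffices he : (⇑T.toLinearMap ∘ fam k A p.ResidueField) = fam k L p.ResidueField by rw [he] at hT; exact hT
  · refine funext fun i => ?_
    have key : ∀ ω : Ω[k⁄ℤ], KaehlerDifferential.map ℤ ℤ A L (KaehlerDifferential.map ℤ ℤ k A ω) =
        KaehlerDifferential.map ℤ ℤ k L ω := fun ω => by
      have hω : ω ∈ Submodule.span k (Set.range (KaehlerDifferential.D ℤ k)) := by
        rw [KaehlerDifferential.span_range_derivation]; trivial
      induction hω using Submodule.span_induction with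
      | mem x hx =>
        obtain ⟨a, rfl⟩ := hx
        simp [← IsScalarTower.algebraMap_apply]
      | zero => simp
      | add x y _ _ hx hy => simp only [map_add, hx, hy]
      | smul c x _ hx =>
        rw [map_smul (KaehlerDifferential.map ℤ ℤ k A), map_smul (KaehlerDifferential.map ℤ ℤ k L),
          ← algebraMap_smul A c (KaehlerDifferential.map ℤ ℤ k A x), map_smul, hx, algebraMap_smul]
    show _ = (1 : p.ResidueField) ⊗ₜ[L] KaehlerDifferential.map ℤ ℤ k L (Module.Free.chooseBasis k (Ω[k⁄ℤ]) i)
    rw [← key]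
    simp [T, fam]

end Groth.Agent.EGA41Adic
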